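import Mathlib

universe u

open TopologicalSpace Topology AlgebraicGeometry

namespace Groth.Agent.TopDimLib

theorem topologicalKrullDim_le_of_injOn_specializes {X Z : Type*} [TopologicalSpace X]
    [TopologicalSpace Z] [QuasiSober X] [T0Space Z] {g : X → Z} (hg : Continuous g)
    (hinj : ∀ x x', x ⤳ x' → g x = g x' → x = x') :
    topologicalKrullDim X ≤ topologicalKrullDim Z := by
  refine Order.krullDim_le_of_strictMono (fun C => (⟨closure (g '' C),
    (C.isIrreducible.image g hg.continuousOn).closure, isClosed_closure⟩ : IrreducibleCloseds Z)) ?_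
  intro C D hCD
  have hle : closure (g '' (C : Set X)) ⊆ closure (g '' D) :=
    closure_mono (Set.image_mono hCD.le)
  refine lt_of_le_of_ne hle fun he => hCD.ne ?_
  obtain ⟨c, hc⟩ := QuasiSober.sober C.isIrreducible C.isClosed
  obtain ⟨d, hd⟩ := QuasiSober.sober D.isIrreducible D.isClosed
  have hdc : d ⤳ c := hd.specializes (hCD.le hc.mem)
  have hcd : g c = g d := by
    have h1 := hc.image hg
    have h2 := hd.image hg
    have he' : closure (g '' (C : Set X)) = closure (g '' D) := congrArg SetLike.coe he
    rw [he'] at h1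
    exact h1.eq h2
  obtain rfl := hinj d c hdc hcd.symm
  exact IrreducibleCloseds.ext (hc.def.symm.trans hd.def)

attribute [local instance] specializationOrder in
theorem topologicalKrullDim_le_of_specializing {X Y : Type*} [TopologicalSpace X] [TopologicalSpace Y]
    [QuasiSober X] [T0Space X] [QuasiSober Y] [T0Space Y] {g : X → Y} (hg : SpecializingMap g)
    (hs : Function.Surjective g) : topologicalKrullDim Y ≤ topologicalKrullDim X := by
  rw [topologicalKrullDim, topologicalKrullDim, Order.krullDim_eq_of_orderIso irreducibleSetEquivPoints,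
    Order.krullDim_eq_of_orderIso (irreducibleSetEquivPoints (α := X))]
  refine iSup_le fun p => ?_
  suffices ∃ q : LTSeries X, q.length = p.length ∧ g q.head = p.head by
    obtain ⟨q, hq, -⟩ := this
    exact hq ▸ Order.LTSeries.length_le_krullDim q
  induction p using RelSeries.inductionOn with
  | singleton y => exact (hs y).elim fun x hx => ⟨RelSeries.singleton _ x, rfl, hx⟩
  | cons p y hy hp =>
    obtain ⟨q, hq, e⟩ := hp
    have h1 : y < p.head := hy
    have h2 : g q.head ⤳ y := by rw [e]; exact h1.le
    obtain ⟨x, hx, rfl⟩ := hg h2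
    have h3 : x < q.head := lt_of_le_of_ne hx fun h => h1.ne (by rw [← e, h])
    exact ⟨q.cons x h3, by simp [hq], by simp⟩

theorem eq_of_specializes_of_quasiFinite {X Y : Scheme.{u}} (f : X ⟶ Y) [LocallyQuasiFinite f]
    {x x' : X} (h : x ⤳ x') (he : f x = f x') : x = x' := by
  haveI : DiscreteTopology ↥(f ⁻¹' {f x'}) :=
    isDiscrete_iff_discreteTopology.1 (f.isDiscrete_preimage_singleton (f x'))
  have hx : x ∈ f ⁻¹' {f x'} := he
  have h' : (⟨x, hx⟩ : ↥(f ⁻¹' {f x'})) ⤳ ⟨x', rfl⟩ := (subtype_specializes_iff _ _).2 h
  exact congrArg Subtype.val h'.eq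

theorem topologicalKrullDim_le_closure_range {X Y : Scheme.{u}} (f : X ⟶ Y) [LocallyQuasiFinite f] :
    topologicalKrullDim X ≤ topologicalKrullDim (closure (Set.range f)) :=
  topologicalKrullDim_le_of_injOn_specializes
    (g := Set.codRestrict f _ fun x => subset_closure ⟨x, rfl⟩)
    (f.continuous.codRestrict _) fun _ _ h he =>
      eq_of_specializes_of_quasiFinite f h (congrArg Subtype.val he)

theorem topologicalKrullDim_eq_range_of_isFinite {X Y : Scheme.{u}} (f : X ⟶ Y) [IsFinite f] :
    topologicalKrullDim X = topologicalKrullDim (Set.range f) := by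
  have hcl : IsClosedMap f := f.isClosedMap
  have : QuasiSober (Set.range f) :=
    (hcl.isClosed_range.isClosedEmbedding_subtypeVal).quasiSober
  refine le_antisymm (topologicalKrullDim_le_of_injOn_specializes
    (g := Set.rangeFactorization f) (f.continuous.rangeFactorization) fun _ _ h he =>
      eq_of_specializes_of_quasiFinite f h (congrArg Subtype.val he)) ?_
  refine topologicalKrullDim_le_of_specializing (g := Set.rangeFactorization f) ?_
    Set.rangeFactorization_surjective
  intro x z hz
  have hz' : f x ⤳ z.1 := ((subtype_specializes_iff _ _).1 hz : _)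
  obtain ⟨x', hx', he⟩ := hcl.specializingMap hz'
  exact ⟨x', hx', Subtype.ext he⟩

end Groth.Agent.TopDimLib
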